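import Groth.Prelude.Def_W4c1gvcharpAbut

/-!
Morphisms of abutments of spectral sequences: vanishing from the second page.
-/

set_option autoImplicit false
universe v u

open CategoryTheory CategoryTheory.Limits

namespace K821.AbutZero

variable {C : Type u} [Category.{v} C] [Abelian C] {r₀ : ℤ}

theorem isZero_page_succ (E : CohomologicalSpectralSequence C r₀) (pq : ℤ × ℤ) (r : ℤ) (hr : r₀ ≤ r)
    (h : IsZero ((E.page r hr).X pq)) (r' : ℤ) (hr' : r + 1 = r') (h0 : r₀ ≤ r') :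
    IsZero ((E.page r' h0).X pq) := by
  have h1 : IsZero ((E.page r hr).homology pq) := by
    apply ShortComplex.isZero_homology_of_isZero_X₂
    exact h
  exact h1.of_iso (E.iso r r' pq hr' hr).symm

theorem isZero_page (E : CohomologicalSpectralSequence C r₀) (pq : ℤ × ℤ) (r : ℤ) (hr : r₀ ≤ r)
    (h : IsZero ((E.page r hr).X pq)) (r' : ℤ) (hr' : r ≤ r') (h0 : r₀ ≤ r') :
    IsZero ((E.page r' h0).X pq) := by
  obtain ⟨k, hk⟩ := Int.le.dest hr'
  induction k generalizing r' with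
  | zero =>
    obtain rfl : r = r' := by simpa using hk
    exact h
  | succ k ih =>
    exact isZero_page_succ E pq (r + k) (by omega) (ih (r + k) (by omega) (by omega) rfl) r'
      (by push_cast at hk; omega) h0

theorem homologyMap_eq_zero {S₁ S₂ : ShortComplex C} (φ : S₁ ⟶ S₂) (h : φ.τ₂ = 0) :
    ShortComplex.homologyMap φ = 0 := by
  have h1 : ShortComplex.cyclesMap φ = 0 := by
    rw [← cancel_mono S₂.iCycles]
    simp [h]
  rw [← cancel_epi S₁.homologyπ]
  simp [h1]

theorem hom_f_eq_zero_succ {E E' : CohomologicalSpectralSequence C r₀} (φ : E ⟶ E') (pq : ℤ × ℤ) (r : ℤ) (hr : r₀ ≤ r)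
    (h : (φ.hom r hr).f pq = 0) (r' : ℤ) (hr' : r + 1 = r') (h0 : r₀ ≤ r') :
    (φ.hom r' h0).f pq = 0 := by
  have h1 := φ.comm r r' pq hr' hr
  have h2 : HomologicalComplex.homologyMap (φ.hom r hr) pq = 0 := homologyMap_eq_zero _ h
  rw [h2, zero_comp] at h1
  rw [← cancel_epi (E.iso r r' pq hr' hr).hom, ← h1, comp_zero]

theorem hom_f_eq_zero {E E' : CohomologicalSpectralSequence C r₀} (φ : E ⟶ E') (pq : ℤ × ℤ) (r : ℤ) (hr : r₀ ≤ r)
    (h : (φ.hom r hr).f pq = 0) (r' : ℤ) (hr' : r ≤ r') (h0 : r₀ ≤ r') :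
    (φ.hom r' h0).f pq = 0 := by
  obtain ⟨k, hk⟩ := Int.le.dest hr'
  induction k generalizing r' with
  | zero =>
    obtain rfl : r = r' := by simpa using hk
    exact h
  | succ k ih =>
    exact hom_f_eq_zero_succ φ pq (r + k) (by omega) (ih (r + k) (by omega) (by omega) rfl) r'
      (by push_cast at hk; omega) h0

theorem le_of_isZero_subquot {X : C} (Z B : Subobject X) (h : B ≤ Z) (hz : IsZero (SpSeq.subquot Z B h)) :
    Z ≤ B := by
  have hepi : Epi (B.ofLE Z h) := by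
    apply Preadditive.epi_of_isZero_cokernel
    exact hz
  have : IsIso (B.ofLE Z h) := isIso_of_mono_of_epi _
  refine Subobject.le_of_comm (inv (B.ofLE Z h)) ?_
  rw [IsIso.inv_comp_eq, Subobject.ofLE_arrow]

variable {E : CohomologicalSpectralSequence C r₀} {H : ℤ → C}

theorem fil_le (a : SpSeq.Abutment E H) (n i : ℤ) (r : ℤ) (hr : r₀ ≤ r)
    (hle : ∀ pq, r ≤ a.rk pq)
    (h : IsZero ((E.page r hr).X (i, n - i))) : a.fil n i ≤ a.fil n (i + 1) := by
  obtain ⟨q, rfl⟩ : ∃ q, n = i + q := ⟨n - i, by omega⟩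
  rw [add_sub_cancel_left] at h
  have h1 := isZero_page E (i, q) r hr h (a.rk (i, q)) (hle _) (a.stat (i, q)).1
  have h2 : IsZero (SpSeq.grPiece (a.fil (i + q)) (a.anti (i + q)) i) := h1.of_iso (a.β (i, q)).symm
  exact le_of_isZero_subquot _ _ _ h2

theorem fil_eq_top (a : SpSeq.Abutment E H) (n : ℤ) (hfin : a.IsFinite n) (a₀ : ℤ)
    (h : ∀ i < a₀, a.fil n i ≤ a.fil n (i + 1)) : a.fil n a₀ = ⊤ := by
  obtain ⟨⟨b, hb⟩, -⟩ := hfin
  change a.fil n b = ⊤ at hb
  have key : ∀ k : ℕ, b + k ≤ a₀ → a.fil n (b + k) = ⊤ := by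
    intro k
    induction k with
    | zero => intro _; simpa using hb
    | succ k ih =>
      intro hk
      push_cast at hk ⊢
      have := h (b + k) (by omega)
      rw [ih (by omega)] at this
      rw [← add_assoc]
      exact top_le_iff.mp this
  by_cases hba : b ≤ a₀
  · obtain ⟨k, hk⟩ := Int.le.dest hba
    rw [← hk]
    exact key k (by omega)
  · rw [← top_le_iff, ← hb]
    exact a.anti n (by omega)

theorem fil_eq_bot (a : SpSeq.Abutment E H) (n : ℤ) (hfin : a.IsFinite n) (a₀ : ℤ)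
    (h : ∀ i > a₀, a.fil n i ≤ a.fil n (i + 1)) : a.fil n (a₀ + 1) = ⊥ := by
  obtain ⟨-, ⟨b, hb⟩⟩ := hfin
  change a.fil n b = ⊥ at hb
  have key : ∀ k : ℕ, a.fil n (a₀ + 1) ≤ a.fil n (a₀ + 1 + k) := by
    intro k
    induction k with
    | zero => simp
    | succ k ih =>
      refine ih.trans ?_
      have := h (a₀ + 1 + k) (by omega)
      push_cast
      rw [← add_assoc]
      exact this
  rw [← le_bot_iff]
  by_cases hba : a₀ + 1 ≤ b
  · obtain ⟨k, hk⟩ := Int.le.dest hba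
    rw [← hb, ← hk]
    exact key k
  · rw [← hb]
    exact a.anti n (by omega)

theorem filLift_hom_eq_zero {K L : SpSeq.FilObj C} (f : SpSeqMor.FilLift K L) (p : ℤ)
    (htop : K.fil p = ⊤) (hbot : L.fil (p + 1) = ⊥) (hgr : f.gr p = 0) : f.hom = 0 := by
  have hz : L.stepLE (Int.le_add_one (le_refl p)) = 0 := by
    have : (L.fil (p + 1)).arrow = 0 := by rw [hbot]; exact Subobject.bot_arrow
    rw [← cancel_mono (L.fil p).arrow, zero_comp]
    simp only [SpSeq.FilObj.stepLE, Subobject.ofLE_arrow]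
    exact this
  have hm : Mono (cokernel.π (L.stepLE (Int.le_add_one (le_refl p)))) :=
    (ShortComplex.exact_iff_mono _ (by exact hz)).mp
      (ShortComplex.exact_cokernel (L.stepLE (Int.le_add_one (le_refl p))))
  have hlift : f.lift p = 0 := by
    have h1 : cokernel.π (K.stepLE (Int.le_add_one (le_refl p))) ≫ f.gr p =
        f.lift p ≫ cokernel.π (L.stepLE (Int.le_add_one (le_refl p))) := by
      unfold SpSeqMor.FilLift.gr
      exact cokernel.π_desc _ _ _
    have h2 : f.lift p ≫ cokernel.π (L.stepLE (Int.le_add_one (le_refl p))) = 0 := by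
      rw [← h1]
      have h3 : cokernel.π (K.stepLE (Int.le_add_one (le_refl p))) ≫ f.gr p =
          cokernel.π (K.stepLE (Int.le_add_one (le_refl p))) ≫ 0 := congrArg _ hgr
      exact h3.trans comp_zero
    exact (cancel_mono _).mp (h2.trans zero_comp.symm)
  have hl := f.lift_arrow p
  rw [hlift, zero_comp] at hl
  have hiso : IsIso (K.fil p).arrow := by
    rw [Subobject.isIso_arrow_iff_eq_top]
    exact htop
  exact (cancel_epi (K.fil p).arrow).mp (hl.symm.trans comp_zero.symm)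

variable {E' : CohomologicalSpectralSequence C r₀} {H' : ℤ → C}

theorem hom_eq_zero {φ : E ⟶ E'} {a : SpSeq.Abutment E H} {a' : SpSeq.Abutment E' H'}
    (f : SpSeqMor.AbutHom φ a a') (p q : ℤ) (hr : r₀ ≤ r₀)
    (htop : a.fil (p + q) p = ⊤) (hbot : a'.fil (p + q) (p + 1) = ⊥)
    (hφ : (φ.hom r₀ hr).f (p, q) = 0) : f.hom (p + q) = 0 := by
  refine filLift_hom_eq_zero (f.fil (p + q)) p htop hbot ?_
  obtain ⟨k, k', hkk⟩ : ∃ k k' : ℕ, a.rk (p, q) + k = a'.rk (p, q) + k' := by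
    rcases le_total (a.rk (p, q)) (a'.rk (p, q)) with hle | hle
    · obtain ⟨k, hk⟩ := Int.le.dest hle
      exact ⟨k, 0, by rw [hk]; simp⟩
    · obtain ⟨k, hk⟩ := Int.le.dest hle
      exact ⟨0, k, by rw [hk]; simp⟩
  have hc := f.comm (p, q) k k' hkk
  have h0 : (φ.hom (a'.rk (p, q) + k') (SpSeqMor.page_le (a'.stat (p, q)).1 k')).f (p, q) = 0 :=
    hom_f_eq_zero φ (p, q) r₀ hr hφ _ (SpSeqMor.page_le (a'.stat (p, q)).1 k') _
  rw [h0] at hc
  simp only [zero_comp, comp_zero] at hc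
  exact (cancel_epi (a.β (p, q)).hom).mp (hc.trans comp_zero.symm)

end K821.AbutZero
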